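/-
Injective and K-injective objects in functor categories: evaluations, split transition maps.
-/
import Groth.Agent.DHA.KInjectiveResolution
import Mathlib.CategoryTheory.Adjunction.Additive
import Mathlib.Algebra.Homology.ShortComplex.ExactFunctor
import Mathlib.CategoryTheory.Adjunction.Evaluation
import Mathlib.CategoryTheory.Abelian.GrothendieckAxioms.FunctorCategory
import Mathlib.CategoryTheory.Abelian.GrothendieckAxioms.Sheaf
import Mathlib.CategoryTheory.Limits.FunctorCategory.Basic
import Mathlib.CategoryTheory.Abelian.FunctorCategory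
import Mathlib.CategoryTheory.Limits.FunctorCategory.EpiMono

universe v u

open CategoryTheory CategoryTheory.Limits Opposite

namespace Groth.Agent.DHA.FilKInj

variable {A : Type u} [Category.{v} A] [Abelian A] [IsGrothendieckAbelian.{v} A]
  {P : Type v} [SmallCategory P]

instance isGrothendieckAbelian_presheaf : IsGrothendieckAbelian.{v} (Pᵒᵖ ⥤ A) :=
  IsGrothendieckAbelian.of_equivalence (sheafBotEquivalence (C := P) A)

lemma preservesMonomorphisms_L (c : Pᵒᵖ) :
    (evaluationLeftAdjoint A c).PreservesMonomorphisms where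
  preserves {X Y} f _ := by
    have (t : Pᵒᵖ) : Mono (((evaluationLeftAdjoint A c).map f).app t) := by
      have : Mono (Limits.Sigma.map (fun _ : c ⟶ t => f)) := inferInstance
      have e : ((evaluationLeftAdjoint A c).map f).app t = Limits.Sigma.map (fun _ : c ⟶ t => f) :=
        Sigma.hom_ext _ _ fun h => (Sigma.ι_desc _ _).trans
          (Sigma.ι_map (fun _ : c ⟶ t => f) h).symm
      rw [e]
      exact this
    exact NatTrans.mono_of_mono_app _

instance (c : Pᵒᵖ) : (evaluationLeftAdjoint A c).Additive :=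
  Adjunction.left_adjoint_additive (evaluationAdjunctionRight A c)

lemma preservesFiniteLimits_L (c : Pᵒᵖ) : PreservesFiniteLimits (evaluationLeftAdjoint A c) := by
  have := preservesMonomorphisms_L (A := A) c
  have hL := (evaluationAdjunctionRight A c).leftAdjoint_preservesColimits
  rw [Functor.preservesFiniteLimits_iff_forall_exact_map_and_mono]
  intro S hS
  have := hS.mono_f
  exact ⟨((Functor.preservesFiniteColimits_iff_forall_exact_map_and_epi _).1 inferInstance S hS).1,
    inferInstance⟩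

theorem injective_app (I : Pᵒᵖ ⥤ A) [Injective I] (c : Pᵒᵖ) : Injective (I.obj c) :=
  have := preservesMonomorphisms_L (A := A) c
  Injective.injective_of_adjoint (evaluationAdjunctionRight A c) I

/-- transition maps of injective diagrams over a thin category are split epimorphisms -/
theorem exists_section [Quiver.IsThin P] (I : Pᵒᵖ ⥤ A) [Injective I] {a b : Pᵒᵖ} (u : a ⟶ b) :
    ∃ s : I.obj b ⟶ I.obj a, s ≫ I.map u = 𝟙 _ := by
  let La : Pᵒᵖ ⥤ A :=
    { obj := fun t => ∐ fun _ : a ⟶ t => I.obj b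
      map := fun f => Sigma.desc fun g => Sigma.ι (fun _ : a ⟶ _ => I.obj b) (g ≫ f) }
  let Lb : Pᵒᵖ ⥤ A :=
    { obj := fun t => ∐ fun _ : b ⟶ t => I.obj b
      map := fun f => Sigma.desc fun g => Sigma.ι (fun _ : b ⟶ _ => I.obj b) (g ≫ f) }
  let φ : Lb ⟶ La :=
    { app := fun t => Sigma.desc fun g => Sigma.ι (fun _ : a ⟶ t => I.obj b) (u ≫ g)
      naturality := fun t t' f => Sigma.hom_ext _ _ fun g => by simp [La, Lb] }
  let e : Lb ⟶ I :=
    { app := fun t => Sigma.desc fun g => I.map g
      naturality := fun t t' f => Sigma.hom_ext _ _ fun g => by simp [Lb] }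
  have (t : Pᵒᵖ) : Mono (φ.app t) := by
    by_cases h : Nonempty (b ⟶ t)
    · obtain ⟨h⟩ := h
      suffices w : φ.app t ≫ Sigma.desc (fun _ : a ⟶ t => Sigma.ι (fun _ : b ⟶ t => I.obj b) h) = 𝟙 _ by
        exact mono_of_mono_fac w
      refine Sigma.hom_ext _ _ fun g => ?_
      have : g = h := Subsingleton.elim _ _
      subst this
      simp [φ, La, Lb]
    · have : IsEmpty (b ⟶ t) := ⟨fun x => h ⟨x⟩⟩
      exact ⟨fun x y _ => IsZero.eq_of_tgt ((IsZero.iff_id_eq_zero _).2
        (Sigma.hom_ext _ _ fun g => isEmptyElim g)) x y⟩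
  have : Mono φ := NatTrans.mono_of_mono_app _
  obtain ⟨ψ, hψ⟩ : ∃ ψ : La ⟶ I, φ ≫ ψ = e := ⟨_, Injective.comp_factorThru e φ⟩
  have h2 := congrArg (fun k : Lb ⟶ I => Sigma.ι (fun _ : b ⟶ b => I.obj b) (𝟙 b) ≫ k.app b)
    hψ
  refine ⟨Sigma.ι (fun _ : a ⟶ a => I.obj b) (𝟙 a) ≫ ψ.app a, ?_⟩
  rw [Category.assoc, ← ψ.naturality]
  simpa [φ, e, La, Lb] using h2

theorem isKInjective_app (Z : CochainComplex (Pᵒᵖ ⥤ A) ℤ) [Z.IsKInjective] (c : Pᵒᵖ) :
    CochainComplex.IsKInjective
      ((((evaluation Pᵒᵖ A).obj c).mapHomologicalComplex (ComplexShape.up ℤ)).obj Z) := by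
  let w := evaluationLeftAdjoint A c
  let ev := (evaluation Pᵒᵖ A).obj c
  let adj := evaluationAdjunctionRight A c
  have := preservesFiniteLimits_L (A := A) c
  have := adj.leftAdjoint_preservesColimits
  refine ⟨fun {K} f hK => ?_⟩
  let a : ∀ i, K.X i ⟶ ev.obj (Z.X i) := fun i => f.f i
  have ha : ∀ i j, a i ≫ ev.map (Z.d i j) = K.d i j ≫ a j := fun i j => f.comm i j
  let f' : (w.mapHomologicalComplex (ComplexShape.up ℤ)).obj K ⟶ Z :=
    { f := fun i => (adj.homEquiv _ _).symm (a i)
      comm' := fun i j _ => by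
        show (adj.homEquiv _ _).symm (a i) ≫ Z.d i j = w.map (K.d i j) ≫ (adj.homEquiv _ _).symm (a j)
        rw [← adj.homEquiv_naturality_left_symm, ← adj.homEquiv_naturality_right_symm]
        exact congrArg (adj.homEquiv _ _).symm (ha i j) }
  have hK' : ((w.mapHomologicalComplex (ComplexShape.up ℤ)).obj K).Acyclic := fun n =>
    ShortComplex.Exact.map (hK n) w
  have H := CochainComplex.IsKInjective.homotopyZero f' hK'
  let η : K ⟶ (ev.mapHomologicalComplex (ComplexShape.up ℤ)).obj
      ((w.mapHomologicalComplex (ComplexShape.up ℤ)).obj K) :=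
    { f := fun i => adj.unit.app (K.X i)
      comm' := fun i j _ => (adj.unit.naturality (K.d i j)).symm }
  refine ⟨(Homotopy.ofEq ?_).trans (((Functor.mapHomotopy ev H).compLeft η).trans
    (Homotopy.ofEq (by simp)))⟩
  ext i
  show f.f i = adj.unit.app (K.X i) ≫ ev.map ((adj.homEquiv _ _).symm (a i))
  exact ((Adjunction.homEquiv_unit adj (K.X i) (Z.X i) _).symm.trans
    (Equiv.apply_symm_apply (adj.homEquiv (K.X i) (Z.X i)) (a i))).symm

end Groth.Agent.DHA.FilKInj
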