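/-
Degreewise split short exact sequences and K-injectivity; five lemma for quasi-isomorphisms.
-/
import Mathlib.Algebra.Homology.HomotopyCategory.DegreewiseSplit
import Mathlib.Algebra.Homology.HomotopyCategory.KInjective
import Mathlib.Algebra.Homology.HomologySequenceLemmas
import Mathlib.CategoryTheory.Abelian.DiagramLemmas.Four

universe v u

open CategoryTheory CategoryTheory.Limits Pretriangulated

namespace Groth.Agent.DHA.FilKInj

variable {A : Type u} [Category.{v} A] [Abelian A]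

theorem split_of_retraction {S : ShortComplex (CochainComplex A ℤ)} (hS : S.ShortExact)
    (h : ∀ n, ∃ r : S.X₂.X n ⟶ S.X₁.X n, S.f.f n ≫ r = 𝟙 _) :
    Nonempty (∀ n, (S.map (HomologicalComplex.eval A (ComplexShape.up ℤ) n)).Splitting) :=
  ⟨fun n =>
    have hn := hS.map_of_exact (HomologicalComplex.eval A (ComplexShape.up ℤ) n)
    ShortComplex.Splitting.ofExactOfRetraction _ hn.exact (h n).choose (h n).choose_spec hn.epi_g⟩

theorem split_of_section {S : ShortComplex (CochainComplex A ℤ)} (hS : S.ShortExact)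
    (h : ∀ n, ∃ s : S.X₃.X n ⟶ S.X₂.X n, s ≫ S.g.f n = 𝟙 _) :
    Nonempty (∀ n, (S.map (HomologicalComplex.eval A (ComplexShape.up ℤ) n)).Splitting) :=
  ⟨fun n =>
    have hn := hS.map_of_exact (HomologicalComplex.eval A (ComplexShape.up ℤ) n)
    ShortComplex.Splitting.ofExactOfSection _ hn.exact (h n).choose (h n).choose_spec hn.mono_f⟩

variable {S : ShortComplex (CochainComplex A ℤ)}
  (σ : ∀ n, (S.map (HomologicalComplex.eval A (ComplexShape.up ℤ) n)).Splitting)

include σ in
theorem injective_X₁ (n : ℤ) [h : Injective (S.X₂.X n)] : Injective (S.X₁.X n) :=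
  haveI : Injective (S.map (HomologicalComplex.eval A (ComplexShape.up ℤ) n)).X₂ := h
  Retract.injective { i := S.f.f n, r := (σ n).r, retract := (σ n).f_r }

include σ in
theorem injective_X₃ (n : ℤ) [h : Injective (S.X₂.X n)] : Injective (S.X₃.X n) :=
  haveI : Injective (S.map (HomologicalComplex.eval A (ComplexShape.up ℤ) n)).X₂ := h
  Retract.injective { i := (σ n).s, r := S.g.f n, retract := (σ n).s_g }

lemma trianglehOfDegreewiseSplit_mem :
    CochainComplex.trianglehOfDegreewiseSplit S σ ∈ distTriang _ :=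
  (HomotopyCategory.distinguished_iff_iso_trianglehOfDegreewiseSplit _).2 ⟨S, σ, ⟨Iso.refl _⟩⟩

include σ in
theorem isKInjective_X₁ (h₂ : S.X₂.IsKInjective) (h₃ : S.X₃.IsKInjective) :
    S.X₁.IsKInjective := by
  rw [CochainComplex.isKInjective_iff_rightOrthogonal] at h₂ h₃ ⊢
  exact (HomotopyCategory.subcategoryAcyclic A).rightOrthogonal.ext_of_isTriangulatedClosed₁
    _ (trianglehOfDegreewiseSplit_mem σ) h₂ h₃

include σ in
theorem isKInjective_X₃ (h₁ : S.X₁.IsKInjective) (h₂ : S.X₂.IsKInjective) :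
    S.X₃.IsKInjective := by
  rw [CochainComplex.isKInjective_iff_rightOrthogonal] at h₁ h₂ ⊢
  exact (HomotopyCategory.subcategoryAcyclic A).rightOrthogonal.ext_of_isTriangulatedClosed₃
    _ (trianglehOfDegreewiseSplit_mem σ) h₁ h₂

open HomologicalComplex HomologySequence ComposableArrows in
theorem quasiIso_τ₁ {S₁ S₂ : ShortComplex (CochainComplex A ℤ)}
    (φ : S₁ ⟶ S₂) (hS₁ : S₁.ShortExact) (hS₂ : S₂.ShortExact)
    (h₂ : QuasiIso φ.τ₂) (h₃ : QuasiIso φ.τ₃) : QuasiIso φ.τ₁ := by
  rw [quasiIso_iff] at h₂ h₃ ⊢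
  intro j
  simp only [quasiIsoAt_iff_isIso_homologyMap] at h₂ h₃ ⊢
  have hij : (ComplexShape.up ℤ).Rel (j - 1) j := show j - 1 + 1 = j by omega
  exact Abelian.isIso_of_epi_of_isIso_of_isIso_of_mono
    (composableArrows₅_exact hS₁ (j - 1) j hij).δ₀
    (composableArrows₅_exact hS₂ (j - 1) j hij).δ₀
    (δ₀Functor.map (mapComposableArrows₅ φ hS₁ hS₂ (j - 1) j hij))
    (have := h₂ (j - 1); IsIso.epi_of_iso (homologyMap φ.τ₂ (j - 1)))
    (h₃ (j - 1)) (h₂ j)
    (have := h₃ j; IsIso.mono_of_iso (homologyMap φ.τ₃ j))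

end Groth.Agent.DHA.FilKInj
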