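/-
Filtered complexes embed into filtered complexes with injective, K-injective pieces.
-/
import Groth.Prelude.Def_SpSeq
import Groth.Agent.DHA.FilKInj.Diagram
import Groth.Agent.DHA.FilKInj.Split
import Mathlib.Algebra.Homology.HomologicalComplexLimits

universe v u

open CategoryTheory CategoryTheory.Limits Opposite

namespace Groth.Agent.DHA.FilKInj

variable {A : Type u} [Category.{v} A] [Abelian A]

/-- the index poset -/
abbrev Idx : Type v := ULift.{v} (WithTop ℤ)

instance : Quiver.IsThin (Idx.{v}) := fun _ _ => inferInstance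

variable (K : SpSeq.FilCx A)

/-- the subobjects defining the diagram of quotients -/
noncomputable def sub : WithTop ℤ → Subobject K.obj
  | ⊤ => ⊥
  | (q : ℤ) => K.fil q

lemma sub_anti : Antitone (sub K) := by
  intro s t h
  induction t with
  | top => exact bot_le
  | coe q => induction s with
    | top => exact absurd h (by simp)
    | coe p => exact K.anti (WithTop.coe_le_coe.1 h)

/-- the diagram of quotients -/
noncomputable def quotDiagram : (Idx.{v})ᵒᵖ ⥤ CochainComplex A ℤ where
  obj x := cokernel (sub K x.unop.down).arrow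
  map {x y} f := cokernel.desc _ (cokernel.π (sub K y.unop.down).arrow) (by
    rw [← Subobject.ofLE_arrow (sub_anti K (show y.unop.down ≤ x.unop.down from f.unop.le)),
      Category.assoc, cokernel.condition, comp_zero])
  map_id x := by rw [← cancel_epi (cokernel.π _), cokernel.π_desc, Category.comp_id]
  map_comp f g := by
    rw [← cancel_epi (cokernel.π _), cokernel.π_desc, cokernel.π_desc_assoc, cokernel.π_desc]

/-- the same as a complex of diagrams -/
noncomputable def diagramComplex : CochainComplex ((Idx.{v})ᵒᵖ ⥤ A) ℤ where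
  X n := quotDiagram K ⋙ HomologicalComplex.eval A (ComplexShape.up ℤ) n
  d i j :=
    { app := fun x => ((quotDiagram K).obj x).d i j
      naturality := fun x y f => ((quotDiagram K).map f).comm i j }
  shape i j h := by ext x; exact ((quotDiagram K).obj x).shape i j h
  d_comp_d' i j k _ _ := by ext x; exact ((quotDiagram K).obj x).d_comp_d i j k

variable [IsGrothendieckAbelian.{v} A]

/-- resolution of the diagram -/
noncomputable def res : CochainComplex ((Idx.{v})ᵒᵖ ⥤ A) ℤ :=
  (DHA.KInj.resolution ((Idx.{v})ᵒᵖ ⥤ A)).obj (diagramComplex K)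

/-- evaluation of the resolution -/
noncomputable def Z (x : (Idx.{v})ᵒᵖ) : CochainComplex A ℤ :=
  (((evaluation (Idx.{v})ᵒᵖ A).obj x).mapHomologicalComplex (ComplexShape.up ℤ)).obj (res K)

/-- the transition maps -/
noncomputable def tr {x y : (Idx.{v})ᵒᵖ} (u : x ⟶ y) : Z K x ⟶ Z K y where
  f n := ((res K).X n).map u
  comm' i j _ := ((res K).d i j).naturality u

lemma tr_comp {x y z : (Idx.{v})ᵒᵖ} (u : x ⟶ y) (v : y ⟶ z) :
    tr K u ≫ tr K v = tr K (u ≫ v) := by
  ext n; exact (((res K).X n).map_comp u v).symm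

/-- the comparison maps -/
noncomputable def cmp (x : (Idx.{v})ᵒᵖ) : (quotDiagram K).obj x ⟶ Z K x where
  f n := (((DHA.KInj.resolutionι _).app (diagramComplex K)).f n).app x
  comm' i j _ := NatTrans.congr_app (((DHA.KInj.resolutionι _).app (diagramComplex K)).comm i j) x

lemma cmp_naturality {x y : (Idx.{v})ᵒᵖ} (u : x ⟶ y) :
    cmp K x ≫ tr K u = (quotDiagram K).map u ≫ cmp K y := by
  ext n
  exact ((((DHA.KInj.resolutionι _).app (diagramComplex K)).f n).naturality u).symm

instance quasiIso_cmp (x : (Idx.{v})ᵒᵖ) : QuasiIso (cmp K x) := by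
  have : QuasiIso ((((evaluation (Idx.{v})ᵒᵖ A).obj x).mapHomologicalComplex (ComplexShape.up ℤ)).map
      ((DHA.KInj.resolutionι _).app (diagramComplex K))) := inferInstance
  exact this

instance isKInjective_Z (x : (Idx.{v})ᵒᵖ) : (Z K x).IsKInjective :=
  have : (res K).IsKInjective := by rw [res]; infer_instance
  isKInjective_app (res K) x

lemma injective_res (n : ℤ) : Injective ((res K).X n) := by rw [res]; infer_instance

instance injective_Z (x : (Idx.{v})ᵒᵖ) (n : ℤ) : Injective ((Z K x).X n) :=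
  have := injective_res K n
  injective_app ((res K).X n) x

lemma exists_section_tr {x y : (Idx.{v})ᵒᵖ} (u : x ⟶ y) (n : ℤ) :
    ∃ s : (Z K y).X n ⟶ (Z K x).X n, s ≫ (tr K u).f n = 𝟙 _ :=
  have := injective_res K n
  exists_section ((res K).X n) u

/-- index of the ambient object -/
def topIdx : (Idx.{v})ᵒᵖ := op ⟨⊤⟩

/-- index of a quotient -/
def idx (p : ℤ) : (Idx.{v})ᵒᵖ := op ⟨(p : WithTop ℤ)⟩

/-- top to `p` -/
noncomputable def toIdx (p : ℤ) : topIdx.{v} ⟶ idx p :=
  (homOfLE (show (⟨(p : WithTop ℤ)⟩ : Idx.{v}) ≤ ⟨⊤⟩ from le_top (α := WithTop ℤ))).op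

/-- between quotients -/
noncomputable def idxLE {p q : ℤ} (h : p ≤ q) : idx.{v} q ⟶ idx p :=
  (homOfLE (show (⟨(p : WithTop ℤ)⟩ : Idx.{v}) ≤ ⟨(q : WithTop ℤ)⟩ from WithTop.coe_le_coe.2 h)).op

/-- `J → J/F^p` -/
noncomputable abbrev r (p : ℤ) : Z K topIdx ⟶ Z K (idx p) := tr K (toIdx p)

lemma r_tr {p q : ℤ} (h : p ≤ q) : r K q ≫ tr K (idxLE h) = r K p := by
  rw [tr_comp]; congr 1

instance (p : ℤ) : Epi (r K p) :=
  HomologicalComplex.epi_of_epi_f _ fun n =>
    let ⟨s, hs⟩ := exists_section_tr K (toIdx p) n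
    epi_of_epi_fac hs

/-- the filtered complex -/
noncomputable def J : SpSeq.FilCx A where
  obj := Z K topIdx
  fil p := Subobject.mk (kernel.ι (r K p))
  anti := fun p q h => Subobject.mk_le_mk_of_comm
    (kernel.lift (r K p) (kernel.ι (r K q)) (by rw [← r_tr K h, kernel.condition_assoc, zero_comp]))
    (kernel.lift_ι _ _ _)

lemma arrow_r (p : ℤ) : ((J K).fil p).arrow ≫ r K p = 0 := by
  show (Subobject.mk (kernel.ι (r K p))).arrow ≫ _ = 0
  rw [← Subobject.underlyingIso_hom_comp_eq_mk, Category.assoc, kernel.condition, comp_zero]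

/-- the defining sequence -/
noncomputable def seq (p : ℤ) : ShortComplex (CochainComplex A ℤ) :=
  ShortComplex.mk ((J K).fil p).arrow (r K p) (arrow_r K p)

lemma seq_shortExact (p : ℤ) : (seq K p).ShortExact :=
  { exact := ShortComplex.exact_of_iso
      (ShortComplex.isoMk (S₁ := ShortComplex.mk _ _ (kernel.condition (r K p)))
        (Subobject.underlyingIso (kernel.ι (r K p))).symm (Iso.refl _) (Iso.refl _)
        (by simp [seq, J]) ((Category.id_comp _).trans (Category.comp_id _).symm))
      (ShortComplex.exact_kernel _)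
    mono_f := inferInstanceAs (Mono ((J K).fil p).arrow)
    epi_g := inferInstanceAs (Epi (r K p)) }

/-- splittings -/
noncomputable def seqSplit (p : ℤ) :
    ∀ n, ((seq K p).map (HomologicalComplex.eval A (ComplexShape.up ℤ) n)).Splitting :=
  (split_of_section (seq_shortExact K p) fun n => exists_section_tr K (toIdx p) n).some

/-- the quotients -/
noncomputable def quotIso (p : ℤ) : (J K).quot p ≅ Z K (idx p) :=
  (cokernelIsCokernel ((J K).fil p).arrow).coconePointUniqueUpToIso (seq_shortExact K p).gIsCokernel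

lemma π_quotIso (p : ℤ) : cokernel.π ((J K).fil p).arrow ≫ (quotIso K p).hom = r K p :=
  IsColimit.comp_coconePointUniqueUpToIso_hom (cokernelIsCokernel ((J K).fil p).arrow)
    (seq_shortExact K p).gIsCokernel WalkingParallelPair.one

instance injective_step (p n : ℤ) : Injective (((J K).step p).X n) :=
  haveI : Injective ((seq K p).X₂.X n) := injective_Z K topIdx n
  injective_X₁ (seqSplit K p) n

instance isKInjective_step (p : ℤ) : CochainComplex.IsKInjective ((J K).step p) :=
  isKInjective_X₁ (seqSplit K p) (isKInjective_Z K topIdx) (isKInjective_Z K (idx p))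

instance isKInjective_quot (p : ℤ) : CochainComplex.IsKInjective ((J K).quot p) :=
  CochainComplex.isKInjective_of_iso (quotIso K p).symm

instance injective_quot (p n : ℤ) : Injective (((J K).quot p).X n) :=
  Injective.of_iso ((HomologicalComplex.eval A (ComplexShape.up ℤ) n).mapIso (quotIso K p)).symm
    (injective_Z K (idx p) n)

/-- the graded sequence -/
noncomputable def grSeq {p q : ℤ} (h : p ≤ q) : ShortComplex (CochainComplex A ℤ) :=
  ShortComplex.mk ((J K).stepLE h) _ (cokernel.condition ((J K).stepLE h))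

lemma grSeq_shortExact {p q : ℤ} (h : p ≤ q) : (grSeq K h).ShortExact :=
  { exact := ShortComplex.exact_cokernel ((J K).stepLE h)
    mono_f := inferInstanceAs (Mono ((J K).stepLE h))
    epi_g := inferInstanceAs (Epi (cokernel.π ((J K).stepLE h))) }

/-- splittings -/
noncomputable def grSplit {p q : ℤ} (h : p ≤ q) :
    ∀ n, ((grSeq K h).map (HomologicalComplex.eval A (ComplexShape.up ℤ) n)).Splitting :=
  (split_of_retraction (grSeq_shortExact K h) fun n =>
    ⟨((J K).fil p).arrow.f n ≫ (seqSplit K q n).r, by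
      have e : ((J K).stepLE h).f n ≫ ((J K).fil p).arrow.f n = ((J K).fil q).arrow.f n := by
        rw [← HomologicalComplex.comp_f, Subobject.ofLE_arrow]
      exact ((Category.assoc _ _ _).symm.trans (congrArg (· ≫ (seqSplit K q n).r) e)).trans
        (seqSplit K q n).f_r⟩).some

/-- comparison at the top -/
noncomputable def cmpTop : cokernel (sub K ⊤).arrow ⟶ Z K topIdx := cmp K topIdx

/-- comparison at `p` -/
noncomputable def cmpQ (p : ℤ) : K.quot p ⟶ Z K (idx p) := cmp K (idx p)

instance (p : ℤ) : QuasiIso (cmpQ K p) := quasiIso_cmp K (idx p)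

instance : QuasiIso (cmpTop K) := quasiIso_cmp K topIdx

lemma cmpTop_r (p : ℤ) :
    cokernel.π (sub K ⊤).arrow ≫ cmpTop K ≫ r K p = cokernel.π (K.fil p).arrow ≫ cmpQ K p :=
  (congrArg (cokernel.π (sub K ⊤).arrow ≫ ·) (cmp_naturality K (toIdx p))).trans
    ((Category.assoc _ _ _).symm.trans (congrArg (· ≫ cmpQ K p) (cokernel.π_desc _ _ _)))

/-- the map on the ambient complexes -/
noncomputable def jHom : K.obj ⟶ (J K).obj := cokernel.π (sub K ⊤).arrow ≫ cmpTop K

instance isIso_π_top : IsIso (cokernel.π (sub K ⊤).arrow) := by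
  have h : (sub K ⊤).arrow = 0 := Subobject.bot_arrow
  exact ⟨cokernel.desc _ (𝟙 _) (by rw [h, zero_comp]), cokernel.π_desc _ _ _,
    (cancel_epi (cokernel.π (sub K ⊤).arrow)).1 (by rw [cokernel.π_desc_assoc]; simp)⟩

instance : QuasiIso (jHom K) :=
  inferInstanceAs (QuasiIso (cokernel.π (sub K ⊤).arrow ≫ cmpTop K))

lemma jHom_r (p : ℤ) : jHom K ≫ r K p = cokernel.π (K.fil p).arrow ≫ cmpQ K p :=
  (Category.assoc _ _ _).trans (cmpTop_r K p)

/-- the maps on the steps -/
noncomputable def jStep (p : ℤ) : K.step p ⟶ (J K).step p :=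
  kernel.lift (r K p) ((K.fil p).arrow ≫ jHom K)
    ((Category.assoc _ _ _).trans ((congrArg ((K.fil p).arrow ≫ ·) (jHom_r K p)).trans
      ((Category.assoc _ _ _).symm.trans (by rw [cokernel.condition, zero_comp])))) ≫
      (Subobject.underlyingIso (kernel.ι (r K p))).inv

lemma jStep_arrow (p : ℤ) : jStep K p ≫ ((J K).fil p).arrow = (K.fil p).arrow ≫ jHom K :=
  (Category.assoc _ _ _).trans
    ((congrArg (_ ≫ ·) (Subobject.underlyingIso_arrow (kernel.ι (r K p)))).trans (kernel.lift_ι _ _ _))

/-- the source sequences -/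
noncomputable def srcSeq (p : ℤ) : ShortComplex (CochainComplex A ℤ) :=
  ShortComplex.mk (K.fil p).arrow _ (cokernel.condition (K.fil p).arrow)

lemma srcSeq_shortExact (p : ℤ) : (srcSeq K p).ShortExact :=
  { exact := ShortComplex.exact_cokernel (K.fil p).arrow
    mono_f := inferInstanceAs (Mono (K.fil p).arrow)
    epi_g := inferInstanceAs (Epi (cokernel.π (K.fil p).arrow)) }

instance quasiIso_jStep (p : ℤ) : QuasiIso (jStep K p) :=
  quasiIso_τ₁ (S₁ := srcSeq K p) (S₂ := seq K p)
    { τ₁ := jStep K p, τ₂ := jHom K, τ₃ := cmpQ K p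
      comm₁₂ := jStep_arrow K p, comm₂₃ := jHom_r K p }
    (srcSeq_shortExact K p) (seq_shortExact K p) (inferInstanceAs (QuasiIso (jHom K)))
    (inferInstanceAs (QuasiIso (cmpQ K p)))

/-- the morphism of filtered complexes -/
noncomputable def jMor : K ⟶ J K :=
  ⟨jHom K, fun p => by
    have hp := Subobject.isPullback (jHom K) ((J K).fil p)
    exact Subobject.le_of_comm (hp.lift (jStep K p) (K.fil p).arrow (jStep_arrow K p))
      (hp.lift_snd _ _ _)⟩

instance mono_arrow_f (p n : ℤ) : Mono (((J K).fil p).arrow.f n) :=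
  inferInstanceAs (Mono ((HomologicalComplex.eval A (ComplexShape.up ℤ) n).map ((J K).fil p).arrow))

/-- `F^p J^n` -/
noncomputable def xStepIso (p n : ℤ) : ((J K).XFil n).step p ≅ ((J K).step p).X n :=
  Subobject.underlyingIso (((J K).fil p).arrow.f n)

lemma injective_xQuot (p n : ℤ) : Injective (((J K).XFil n).quot p) := by
  have : Mono (((J K).fil p).arrow.f n) := mono_arrow_f K p n
  have e := Subobject.underlyingIso_hom_comp_eq_mk (((J K).fil p).arrow.f n)
  refine Injective.of_iso ?_ (injective_quot K p n)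
  refine PreservesCokernel.iso (HomologicalComplex.eval A (ComplexShape.up ℤ) n)
    ((J K).fil p).arrow ≪≫ ?_
  exact (cokernel.mapIso _ _ (xStepIso K p n) (Iso.refl _)
    ((Category.comp_id _).trans e.symm)).symm

lemma injective_xGr {p q : ℤ} (h : p ≤ q) (n : ℤ) :
    Injective (cokernel (((J K).XFil n).stepLE h)) := by
  haveI : Injective ((grSeq K h).X₂.X n) := injective_step K p n
  have h3 : Injective ((cokernel ((J K).stepLE h)).X n) := injective_X₃ (grSplit K h) n
  refine Injective.of_iso ?_ h3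
  refine PreservesCokernel.iso (HomologicalComplex.eval A (ComplexShape.up ℤ) n)
    ((J K).stepLE h) ≪≫ (cokernel.mapIso _ _ (xStepIso K q n) (xStepIso K p n) ?_).symm
  refine (cancel_mono (((J K).fil p).arrow.f n)).1 ?_
  have e1 : (xStepIso K p n).hom ≫ ((J K).fil p).arrow.f n = ((J K).filX p n).arrow :=
    Subobject.underlyingIso_hom_comp_eq_mk _
  have e2 : (xStepIso K q n).hom ≫ ((J K).fil q).arrow.f n = ((J K).filX q n).arrow :=
    Subobject.underlyingIso_hom_comp_eq_mk _
  have e3 : ((J K).stepLE h).f n ≫ ((J K).fil p).arrow.f n = ((J K).fil q).arrow.f n := by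
    rw [← HomologicalComplex.comp_f, Subobject.ofLE_arrow]
  refine (Category.assoc _ _ _).trans ((congrArg (_ ≫ ·) e1).trans ?_)
  refine (Subobject.ofLE_arrow ((J K).filX_anti n h)).trans ?_
  exact (e2.symm.trans (congrArg ((xStepIso K q n).hom ≫ ·) e3.symm)).trans
    (Category.assoc _ _ _).symm

theorem exists_filtered_embedding :
    ∃ (J : SpSeq.FilCx A) (j : K ⟶ J),
      (∀ n p : ℤ, Injective (J.obj.X n) ∧ Injective ((J.XFil n).step p) ∧ Injective ((J.XFil n).quot p) ∧
        ∀ (p' : ℤ) (h : p ≤ p'), Injective (cokernel ((J.XFil n).stepLE h))) ∧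
      (CochainComplex.IsKInjective J.obj ∧ ∀ p : ℤ, CochainComplex.IsKInjective (J.step p) ∧
        CochainComplex.IsKInjective (J.quot p) ∧
        ∀ (p' : ℤ) (h : p ≤ p'), CochainComplex.IsKInjective (cokernel (J.stepLE h))) ∧
      QuasiIso j.hom ∧
      (∀ p : ℤ, ∃ jp : K.step p ⟶ J.step p, jp ≫ (J.fil p).arrow = (K.fil p).arrow ≫ j.hom ∧ QuasiIso jp ∧
        (∀ (p' : ℤ) (h : p ≤ p'), ∃ (jp' : K.step p' ⟶ J.step p') (jg : cokernel (K.stepLE h) ⟶ cokernel (J.stepLE h)),
          jp' ≫ (J.fil p').arrow = (K.fil p').arrow ≫ j.hom ∧ jp' ≫ J.stepLE h = K.stepLE h ≫ jp ∧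
          cokernel.π (K.stepLE h) ≫ jg = jp ≫ cokernel.π (J.stepLE h) ∧ QuasiIso jg)) ∧
      (∀ p : ℤ, ∃ jq : K.quot p ⟶ J.quot p,
        cokernel.π (K.fil p).arrow ≫ jq = j.hom ≫ cokernel.π (J.fil p).arrow ∧ QuasiIso jq) := by
  refine ⟨J K, jMor K, fun n p => ⟨injective_Z K topIdx n,
    Injective.of_iso (xStepIso K p n).symm (injective_step K p n), injective_xQuot K p n,
    fun p' h => injective_xGr K h n⟩,
    ⟨isKInjective_Z K topIdx, fun p => ⟨isKInjective_step K p, isKInjective_quot K p,
      fun p' h => isKInjective_X₃ (grSplit K h) (isKInjective_step K p') (isKInjective_step K p)⟩⟩,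
    inferInstanceAs (QuasiIso (jHom K)),
    fun p => ⟨jStep K p, jStep_arrow K p, inferInstance, fun p' h => ?_⟩, fun p => ?_⟩
  · have hcomm : jStep K p' ≫ (J K).stepLE h = K.stepLE h ≫ jStep K p := by
      rw [← cancel_mono ((J K).fil p).arrow, Category.assoc, Subobject.ofLE_arrow, jStep_arrow,
        Category.assoc, jStep_arrow, Subobject.ofLE_arrow_assoc]
    refine ⟨jStep K p', cokernel.map _ _ (jStep K p') (jStep K p) hcomm.symm, jStep_arrow K p',
      hcomm, cokernel.π_desc _ _ _, ?_⟩
    let S₁ : ShortComplex (CochainComplex A ℤ) :=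
      ShortComplex.mk (K.stepLE h) _ (cokernel.condition (K.stepLE h))
    have hS₁ : S₁.ShortExact :=
      { exact := ShortComplex.exact_cokernel (K.stepLE h)
        mono_f := inferInstanceAs (Mono (K.stepLE h))
        epi_g := inferInstanceAs (Epi (cokernel.π (K.stepLE h))) }
    let φ : S₁ ⟶ grSeq K h :=
      { τ₁ := jStep K p', τ₂ := jStep K p,
        τ₃ := cokernel.map _ _ (jStep K p') (jStep K p) hcomm.symm
        comm₁₂ := hcomm, comm₂₃ := (cokernel.π_desc _ _ _).symm }
    exact HomologicalComplex.HomologySequence.quasiIso_τ₃ φ hS₁ (grSeq_shortExact K h)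
      (quasiIso_jStep K p') (quasiIso_jStep K p)
  · refine ⟨cmpQ K p ≫ (quotIso K p).inv, ?_, inferInstance⟩
    show _ = jHom K ≫ _
    rw [← cancel_mono (quotIso K p).hom, Category.assoc, Category.assoc, Category.assoc,
      π_quotIso, jHom_r]
    exact congrArg (_ ≫ ·) ((congrArg (cmpQ K p ≫ ·) (Iso.inv_hom_id _)).trans (Category.comp_id _))

end Groth.Agent.DHA.FilKInj
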